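import Mathlib.RingTheory.MvPowerSeries.Substitution
import Mathlib.RingTheory.MvPowerSeries.Order

/-!
# The inverse function theorem for multivariate power series

If `f i = C (c i) * X i + (terms of order ≥ 2)` with all `c i` units, substitution of `f` is a
bijective endomorphism of `R⟦X_σ⟧` (σ finite).
-/

set_option autoImplicit false

namespace Groth.EtaleDeep.PSInverse

open MvPowerSeries

variable {σ τ : Type*} {R : Type*} [CommRing R]

lemma le_order_mul' {f g : MvPowerSeries σ R} {m n : ℕ} (hf : (m : ℕ∞) ≤ f.order)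
    (hg : (n : ℕ∞) ≤ g.order) : ((m + n : ℕ) : ℕ∞) ≤ (f * g).order := by
  push_cast
  exact (add_le_add hf hg).trans le_order_mul

lemma le_order_add' {f g : MvPowerSeries σ R} {n : ℕ∞} (hf : n ≤ f.order) (hg : n ≤ g.order) :
    n ≤ (f + g).order :=
  (le_min hf hg).trans min_order_le_add

lemma le_order_neg' {f : MvPowerSeries σ R} {n : ℕ∞} (hf : n ≤ f.order) : n ≤ (-f).order := by
  rwa [order_neg]

lemma one_le_order {f : MvPowerSeries σ R} (hf : constantCoeff f = 0) : ((1 : ℕ) : ℕ∞) ≤ f.order := by
  simpa using one_le_order_iff_constCoeff_eq_zero.2 hf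

lemma two_le_order_mul {f g : MvPowerSeries σ R} (hf : constantCoeff f = 0)
    (hg : constantCoeff g = 0) : (2 : ℕ∞) ≤ (f * g).order := by
  simpa using le_order_mul' (one_le_order hf) (one_le_order hg)

lemma two_le_order_pow {f : MvPowerSeries σ R} (hf : constantCoeff f = 0) (n : ℕ) :
    (2 : ℕ∞) ≤ (f ^ (n + 2)).order := by
  rw [pow_succ]
  exact two_le_order_mul (by simp [map_pow, hf]) hf

lemma two_le_order_mul_right {f g : MvPowerSeries σ R} (hg : (2 : ℕ∞) ≤ g.order) :
    (2 : ℕ∞) ≤ (f * g).order :=
  le_trans (le_trans hg (le_add_self)) le_order_mul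

lemma two_le_order_mul_left {f g : MvPowerSeries σ R} (hf : (2 : ℕ∞) ≤ f.order) :
    (2 : ℕ∞) ≤ (f * g).order :=
  le_trans (le_trans hf (le_self_add)) le_order_mul

lemma constantCoeff_eq_zero_of_one_le {f : MvPowerSeries σ R} (hf : (1 : ℕ∞) ≤ f.order) :
    constantCoeff f = 0 :=
  one_le_order_iff_constCoeff_eq_zero.1 hf

lemma constantCoeff_eq_zero_of_two_le {f : MvPowerSeries σ R} (hf : (2 : ℕ∞) ≤ f.order) :
    constantCoeff f = 0 :=
  constantCoeff_eq_zero_of_one_le (le_trans (by norm_num) hf)

lemma le_order_prod_sub (g g' : σ → MvPowerSeries τ R) (k : ℕ)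
    (hg : ∀ i, constantCoeff (g i) = 0) (hg' : ∀ i, constantCoeff (g' i) = 0)
    (h : ∀ i, (k : ℕ∞) ≤ (g i - g' i).order) (s : Multiset σ) :
    (((k + Multiset.card s - 1 : ℕ) : ℕ∞) ≤ ((s.map g).prod - (s.map g').prod).order) ∧
      ((Multiset.card s : ℕ) : ℕ∞) ≤ (s.map g).prod.order := by
  induction s using Multiset.induction with
  | empty => simp
  | cons a s ih =>
    obtain ⟨ih1, ih2⟩ := ih
    simp only [Multiset.map_cons, Multiset.prod_cons, Multiset.card_cons]
    refine ⟨?_, ?_⟩
    · have e : g a * (s.map g).prod - g' a * (s.map g').prod =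
          (g a - g' a) * (s.map g).prod + g' a * ((s.map g).prod - (s.map g').prod) := by ring
      rw [e]
      refine le_order_add' ?_ ?_
      · refine le_trans ?_ (le_order_mul' (h a) ih2)
        exact_mod_cast (by omega)
      · refine le_trans ?_ (le_order_mul' (one_le_order (hg' a)) ih1)
        exact_mod_cast (by omega)
    · refine le_trans ?_ (le_order_mul' (one_le_order (hg a)) ih2)
      exact_mod_cast (by omega)

lemma finsupp_prod_eq_multiset (g : σ → MvPowerSeries τ R) (d : σ →₀ ℕ) :
    d.prod (fun i n => g i ^ n) = (d.toMultiset.map g).prod := by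
  induction d using Finsupp.induction with
  | zero => simp
  | single_add a b d ha hb ih =>
    classical
    rw [Finsupp.prod_add_index' (fun i => pow_zero _) (fun i m n => pow_add _ m n)]
    simp [ih, Multiset.map_nsmul, Multiset.prod_nsmul]

lemma card_toMultiset_eq_degree (d : σ →₀ ℕ) : Multiset.card d.toMultiset = d.degree := by
  rw [Finsupp.card_toMultiset, Finsupp.degree_apply]
  rfl

/-- Substituting congruent tuples into a series of order `≥ 2` gains one order. -/
lemma le_order_subst_sub (g g' : σ → MvPowerSeries τ R) (hgs : HasSubst g) (hgs' : HasSubst g')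
    (k : ℕ) (hg : ∀ i, constantCoeff (g i) = 0) (hg' : ∀ i, constantCoeff (g' i) = 0)
    (h : ∀ i, (k : ℕ∞) ≤ (g i - g' i).order)
    (r : MvPowerSeries σ R) (hr : (2 : ℕ∞) ≤ r.order) :
    ((k + 1 : ℕ) : ℕ∞) ≤ (subst g r - subst g' r).order := by
  refine nat_le_order fun e he => ?_
  rw [map_sub, coeff_subst hgs, coeff_subst hgs', sub_eq_zero]
  refine finsum_congr fun d => ?_
  by_cases hd : d.degree < 2
  · rw [coeff_of_lt_order (f := r) (lt_of_lt_of_le (by exact_mod_cast hd) hr), zero_smul, zero_smul]
  · have := (le_order_prod_sub g g' k hg hg' h d.toMultiset).1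
    rw [card_toMultiset_eq_degree, ← finsupp_prod_eq_multiset, ← finsupp_prod_eq_multiset] at this
    have h0 := coeff_of_lt_order (d := e) (lt_of_lt_of_le
      (show ((e.degree : ℕ) : ℕ∞) < ((k + d.degree - 1 : ℕ) : ℕ∞) by exact_mod_cast (by omega)) this)
    rw [map_sub, sub_eq_zero] at h0
    rw [h0]

section
variable [Finite σ]

/-- Successive approximations of the inverse of `X + r`. -/
noncomputable def approx (r : σ → MvPowerSeries σ R) : ℕ → σ → MvPowerSeries σ R
  | 0 => X
  | k + 1 => fun i => X i - subst (approx r k) (r i)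

lemma constantCoeff_approx (r : σ → MvPowerSeries σ R) (hr : ∀ i, (2 : ℕ∞) ≤ (r i).order)
    (k : ℕ) : ∀ i, constantCoeff (approx r k i) = 0 := by
  induction k with
  | zero => exact fun i => constantCoeff_X i
  | succ k ih =>
    intro i
    rw [approx, map_sub, constantCoeff_X,
      constantCoeff_subst_eq_zero (hasSubst_of_constantCoeff_zero ih) ih
        (constantCoeff_eq_zero_of_two_le (hr i)), sub_zero]

lemma hasSubst_approx (r : σ → MvPowerSeries σ R) (hr : ∀ i, (2 : ℕ∞) ≤ (r i).order) (k : ℕ) :
    HasSubst (approx r k) :=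
  hasSubst_of_constantCoeff_zero (constantCoeff_approx r hr k)

lemma le_order_approx_succ_sub (r : σ → MvPowerSeries σ R) (hr : ∀ i, (2 : ℕ∞) ≤ (r i).order)
    (k : ℕ) : ∀ i, ((k + 2 : ℕ) : ℕ∞) ≤ (approx r (k + 1) i - approx r k i).order := by
  induction k with
  | zero =>
    intro i
    simp only [approx, subst_self, id_eq, sub_sub_cancel_left, order_neg]
    exact_mod_cast hr i
  | succ k ih =>
    intro i
    have e : approx r (k + 1 + 1) i - approx r (k + 1) i =
        -(subst (approx r (k + 1)) (r i) - subst (approx r k) (r i)) := by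
      simp only [approx]; ring
    rw [e, order_neg]
    exact le_order_subst_sub _ _ (hasSubst_approx r hr _) (hasSubst_approx r hr _) (k + 2)
      (constantCoeff_approx r hr _) (constantCoeff_approx r hr _) ih (r i) (hr i)

lemma coeff_approx_add (r : σ → MvPowerSeries σ R) (hr : ∀ i, (2 : ℕ∞) ≤ (r i).order)
    (e : σ →₀ ℕ) (i : σ) (j : ℕ) :
    coeff e (approx r (e.degree + j) i) = coeff e (approx r e.degree i) := by
  induction j with
  | zero => rfl
  | succ j ih =>
    rw [← ih, ← sub_eq_zero, ← map_sub]
    refine coeff_of_lt_order (lt_of_lt_of_le ?_ (le_order_approx_succ_sub r hr _ i))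
    exact_mod_cast (show e.degree < e.degree + j + 2 by omega)

/-- The inverse of `X + r`. -/
noncomputable def limit (r : σ → MvPowerSeries σ R) (i : σ) : MvPowerSeries σ R :=
  fun e => coeff e (approx r e.degree i)

omit [Finite σ] in
lemma coeff_limit (r : σ → MvPowerSeries σ R) (i : σ) (e : σ →₀ ℕ) :
    coeff e (limit r i) = coeff e (approx r e.degree i) := rfl

lemma le_order_limit_sub (r : σ → MvPowerSeries σ R) (hr : ∀ i, (2 : ℕ∞) ≤ (r i).order)
    (m : ℕ) (i : σ) : ((m + 1 : ℕ) : ℕ∞) ≤ (limit r i - approx r m i).order := by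
  refine nat_le_order fun e he => ?_
  obtain ⟨j, rfl⟩ : ∃ j, m = e.degree + j := ⟨m - e.degree, by omega⟩
  rw [map_sub, coeff_limit, coeff_approx_add r hr, sub_self]

lemma constantCoeff_limit (r : σ → MvPowerSeries σ R) (hr : ∀ i, (2 : ℕ∞) ≤ (r i).order) (i : σ) :
    constantCoeff (limit r i) = 0 := by
  have h := constantCoeff_eq_zero_of_one_le
    (show (1 : ℕ∞) ≤ (limit r i - approx r 0 i).order by simpa using le_order_limit_sub r hr 0 i)
  rw [map_sub, constantCoeff_approx r hr, sub_zero] at h
  exact h

lemma hasSubst_limit (r : σ → MvPowerSeries σ R) (hr : ∀ i, (2 : ℕ∞) ≤ (r i).order) :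
    HasSubst (limit r) :=
  hasSubst_of_constantCoeff_zero (constantCoeff_limit r hr)

lemma limit_eq (r : σ → MvPowerSeries σ R) (hr : ∀ i, (2 : ℕ∞) ≤ (r i).order) (i : σ) :
    limit r i = X i - subst (limit r) (r i) := by
  ext e
  have h1 : coeff e (limit r i) = coeff e (approx r (e.degree + 1) i) := by
    rw [coeff_limit, coeff_approx_add r hr]
  rw [h1, approx, map_sub, map_sub]
  congr 1
  rw [← sub_eq_zero, ← map_sub]
  refine coeff_of_lt_order (lt_of_lt_of_le ?_ (le_order_subst_sub _ _ (hasSubst_approx r hr _)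
    (hasSubst_limit r hr) (e.degree + 1) (constantCoeff_approx r hr _) (constantCoeff_limit r hr)
    (fun i => by rw [← neg_sub, order_neg]; exact le_order_limit_sub r hr _ i) (r i) (hr i)))
  exact_mod_cast (by omega)

lemma two_le_order_limit_sub_X (r : σ → MvPowerSeries σ R) (hr : ∀ i, (2 : ℕ∞) ≤ (r i).order)
    (i : σ) : (2 : ℕ∞) ≤ (limit r i - X i).order := by
  have h := le_order_limit_sub r hr 1 i
  have h2 := le_order_approx_succ_sub r hr 0 i
  have e : limit r i - X i = (limit r i - approx r 1 i) + (approx r 1 i - approx r 0 i) := by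
    simp only [approx]; ring
  rw [e]
  exact le_order_add' (by exact_mod_cast h) (by exact_mod_cast h2)

lemma hasSubst_of_two_le (f : σ → MvPowerSeries σ R)
    (hf : ∀ i, (2 : ℕ∞) ≤ (f i - X i).order) : HasSubst f :=
  hasSubst_of_constantCoeff_zero fun i => by
    have := constantCoeff_eq_zero_of_two_le (hf i)
    rwa [map_sub, constantCoeff_X, sub_zero] at this

lemma exists_leftInverse (f : σ → MvPowerSeries σ R)
    (hf : ∀ i, (2 : ℕ∞) ≤ (f i - X i).order) :
    ∃ g : σ → MvPowerSeries σ R, (∀ i, (2 : ℕ∞) ≤ (g i - X i).order) ∧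
      ∀ p : MvPowerSeries σ R, subst g (subst f p) = p := by
  refine ⟨limit (fun i => f i - X i), two_le_order_limit_sub_X _ hf, fun p => ?_⟩
  have hG := hasSubst_limit _ hf
  rw [subst_comp_subst_apply (hasSubst_of_two_le f hf) hG]
  have : (fun i => subst (limit fun i => f i - X i) (f i)) = X := by
    funext i
    have h := limit_eq _ hf i
    rw [eq_sub_iff_add_eq] at h
    refine Eq.trans ?_ h
    rw [subst_sub hG, subst_X hG, add_sub_cancel]
  rw [this, subst_self, id_eq]

lemma bijective_subst_of_sub_X (f : σ → MvPowerSeries σ R)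
    (hf : ∀ i, (2 : ℕ∞) ≤ (f i - X i).order) :
    Function.Bijective (subst f : MvPowerSeries σ R → MvPowerSeries σ R) := by
  obtain ⟨g, hg, h1⟩ := exists_leftInverse f hf
  obtain ⟨h, -, h2⟩ := exists_leftInverse g hg
  have : ∀ q, subst f q = subst h q := fun q => by
    conv_rhs => rw [← h1 q]
    rw [h2]
  refine Function.bijective_iff_has_inverse.2 ⟨subst g, h1, fun q => ?_⟩
  rw [this, h2]

omit [Finite σ] in
lemma subst_C_mul_X {τ : Type*} {g : σ → MvPowerSeries τ R} (hg : HasSubst g) (c : R) (i : σ) :
    subst g (C c * X i) = C c * g i := by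
  rw [subst_mul hg, subst_C, subst_X hg]

/-- The inverse function theorem: a tuple with invertible diagonal linear part gives a bijective
substitution. -/
theorem bijective_subst (f : σ → MvPowerSeries σ R) (c : σ → R) (hc : ∀ i, IsUnit (c i))
    (hf : ∀ i, (2 : ℕ∞) ≤ (f i - C (c i) * X i).order) :
    Function.Bijective (subst f : MvPowerSeries σ R → MvPowerSeries σ R) := by
  choose u hu using fun i => (hc i).exists_left_inv
  let d : σ → MvPowerSeries σ R := fun i => C (c i) * X i
  let d' : σ → MvPowerSeries σ R := fun i => C (u i) * X i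
  let f' : σ → MvPowerSeries σ R := fun i => C (u i) * f i
  have hCu : ∀ i, C (u i) * C (c i) = (1 : MvPowerSeries σ R) := fun i => by
    rw [← map_mul, hu, map_one]
  have hd : HasSubst d := hasSubst_of_constantCoeff_zero fun i => by simp [d]
  have hd' : HasSubst d' := hasSubst_of_constantCoeff_zero fun i => by simp [d']
  have hf' : ∀ i, (2 : ℕ∞) ≤ (f' i - X i).order := fun i => by
    have : f' i - X i = C (u i) * (f i - C (c i) * X i) := by
      rw [mul_sub, ← mul_assoc, hCu, one_mul]
    rw [this]
    exact two_le_order_mul_right (hf i)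
  have hfd : ∀ p, subst f p = subst f' (subst d p) := fun p => by
    rw [subst_comp_subst_apply (R := R) hd (hasSubst_of_two_le f' hf') p]
    congr 1
    funext i
    rw [subst_C_mul_X (hasSubst_of_two_le f' hf')]
    show f i = C (c i) * (C (u i) * f i)
    rw [← mul_assoc, mul_comm (C (c i)), hCu, one_mul]
  have hdd : Function.Bijective (subst d : MvPowerSeries σ R → MvPowerSeries σ R) := by
    refine Function.bijective_iff_has_inverse.2 ⟨subst d', fun p => ?_, fun p => ?_⟩
    · have e : (fun i => subst d' (d i)) = (X : σ → MvPowerSeries σ R) := by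
        funext i
        rw [subst_C_mul_X hd']
        show C (c i) * (C (u i) * X i) = X i
        rw [← mul_assoc, mul_comm (C (c i)), hCu, one_mul]
      rw [subst_comp_subst_apply hd hd', e, subst_self, id_eq]
    · have e : (fun i => subst d (d' i)) = (X : σ → MvPowerSeries σ R) := by
        funext i
        rw [subst_C_mul_X hd]
        show C (u i) * (C (c i) * X i) = X i
        rw [← mul_assoc, hCu, one_mul]
      rw [subst_comp_subst_apply hd' hd, e, subst_self, id_eq]
  have : (subst f : MvPowerSeries σ R → MvPowerSeries σ R) = subst f' ∘ subst d := funext hfd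
  rw [this]
  exact (bijective_subst_of_sub_X f' hf').comp hdd

end

/-- An algebra automorphism given by substitution of a tuple inducing a bijection. -/
noncomputable def substEquiv (f : σ → MvPowerSeries σ R) (hs : HasSubst f)
    (hb : Function.Bijective (subst f : MvPowerSeries σ R → MvPowerSeries σ R)) :
    MvPowerSeries σ R ≃ₐ[R] MvPowerSeries σ R :=
  AlgEquiv.ofBijective (substAlgHom hs) (by rwa [coe_substAlgHom])

lemma substEquiv_apply (f : σ → MvPowerSeries σ R) (hs : HasSubst f)
    (hb : Function.Bijective (subst f : MvPowerSeries σ R → MvPowerSeries σ R))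
    (p : MvPowerSeries σ R) : substEquiv f hs hb p = subst f p := by
  simp [substEquiv]

end Groth.EtaleDeep.PSInverse
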