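import Groth.Prelude.Def_ARSys
import Mathlib.CategoryTheory.Abelian.Refinements
import Mathlib.Algebra.Homology.ShortComplex.Abelian
import Mathlib.Algebra.Homology.ShortComplex.PreservesHomology
import Mathlib.CategoryTheory.Limits.FunctorCategory.Basic

/-! Basic lemmas on projective systems up to translation: transition maps, kernels and cokernels
computed termwise, null systems. -/

universe v u

open CategoryTheory CategoryTheory.Limits Opposite

namespace Groth.EtaleDeep.AR

variable {C : Type u} [Category.{v} C]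

@[reassoc]
lemma tr_comp (X : ARSys.PS C) {a b c : ℕ} (h₁ : a ≤ b) (h₂ : b ≤ c) :
    ARSys.tr X h₂ ≫ ARSys.tr X h₁ = ARSys.tr X (h₁.trans h₂) :=
  (X.map_comp _ _).symm

@[simp]
lemma tr_self (X : ARSys.PS C) {a : ℕ} (h : a ≤ a) : ARSys.tr X h = 𝟙 _ :=
  X.map_id _

lemma tr_naturality {X Y : ARSys.PS C} (u : X ⟶ Y) {a b : ℕ} (h : a ≤ b) :
    ARSys.tr X h ≫ u.app (op a) = u.app (op b) ≫ ARSys.tr Y h :=
  u.naturality _

variable [Abelian C]

/-- The kernel of a morphism of systems, evaluated at a degree. -/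
lemma exact_kernel_app {X Y : ARSys.PS C} (u : X ⟶ Y) (o : ℕᵒᵖ) :
    (ShortComplex.mk ((kernel.ι u).app o) (u.app o)
      (by rw [← NatTrans.comp_app, kernel.condition]; rfl)).Exact :=
  (ShortComplex.exact_of_f_is_kernel (ShortComplex.mk (kernel.ι u) u (kernel.condition u))
    (kernelIsKernel u)).map ((evaluation ℕᵒᵖ C).obj o)

/-- The cokernel of a morphism of systems, evaluated at a degree. -/
lemma exact_cokernel_app {X Y : ARSys.PS C} (u : X ⟶ Y) (o : ℕᵒᵖ) :
    (ShortComplex.mk (u.app o) ((cokernel.π u).app o)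
      (by rw [← NatTrans.comp_app, cokernel.condition]; rfl)).Exact :=
  (ShortComplex.exact_of_g_is_cokernel (ShortComplex.mk u (cokernel.π u) (cokernel.condition u))
    (cokernelIsCokernel u)).map ((evaluation ℕᵒᵖ C).obj o)

lemma mono_kernel_app {X Y : ARSys.PS C} (u : X ⟶ Y) (o : ℕᵒᵖ) : Mono ((kernel.ι u).app o) :=
  inferInstanceAs (Mono (((evaluation ℕᵒᵖ C).obj o).map (kernel.ι u)))

/-- The transition maps of a null system kill the kernel. -/
lemma comp_tr_eq_zero_of_kernel {X Y : ARSys.PS C} (u : X ⟶ Y) {r n : ℕ}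
    (h : ARSys.shiftMap (kernel u) r n = 0) {W : C} (k : W ⟶ X.obj (op (n + r)))
    (hk : k ≫ u.app (op (n + r)) = 0) : k ≫ ARSys.tr X (Nat.le_add_right n r) = 0 := by
  have h' : ARSys.tr (kernel u) (Nat.le_add_right n r) = 0 := h
  have : Mono (ShortComplex.mk ((kernel.ι u).app (op (n + r))) (u.app (op (n + r)))
      (by rw [← NatTrans.comp_app, kernel.condition]; rfl)).f := mono_kernel_app u _
  obtain ⟨l, hl⟩ : ∃ l, l ≫ (kernel.ι u).app (op (n + r)) = k :=
    ⟨(exact_kernel_app u _).lift k hk, (exact_kernel_app u _).lift_f k hk⟩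
  rw [← hl, Category.assoc, ← tr_naturality, h', zero_comp, comp_zero]

/-- A compatible family in a null system vanishes. -/
lemma eq_zero_of_isARNull {X : ARSys.PS C} (h : ARSys.IsARNull X) {P : C}
    (y : ∀ n : ℕ, P ⟶ X.obj (op n))
    (hy : ∀ (n m : ℕ) (hnm : n ≤ m), y m ≫ ARSys.tr X hnm = y n) (n : ℕ) : y n = 0 := by
  obtain ⟨r, hr⟩ := h
  have h' : ARSys.tr X (Nat.le_add_right n r) = 0 := hr n
  rw [← hy n (n + r) (Nat.le_add_right n r), h', comp_zero]

end Groth.EtaleDeep.AR
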