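import Mathlib.RingTheory.MvPolynomial.Basic
import Mathlib.Algebra.MvPolynomial.Expand
import Mathlib.Algebra.MvPolynomial.PDeriv
import Mathlib.Algebra.CharP.Two
import Mathlib.Algebra.CharP.Algebra
import Mathlib.Tactic.LinearCombination

/-!
# Derivations of `R[x, y]` in characteristic two

`R[x, y]` is free over `R[x², y²]` on `1, x, y, xy`, and derivations are linear over the squares.
-/

set_option autoImplicit false

namespace Groth.EtaleDeep.Char2

open MvPolynomial

variable {R : Type*} [CommRing R]

local notation "S" => MvPolynomial (Fin 2) R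
local notation "E" => (expand 2 : S →ₐ[R] S)

/-- Every subalgebra containing `x²` and `y²` contains `R[x², y²]`. -/
lemma expand_mem {B : Subalgebra R S} (hB : ∀ i : Fin 2, (X i : S) ^ 2 ∈ B) (a : S) :
    E a ∈ B := by
  induction a using MvPolynomial.induction_on with
  | C r => rw [expand_C]; exact B.algebraMap_mem r
  | add p q hp hq => rw [map_add]; exact B.add_mem hp hq
  | mul_X p i hp => rw [map_mul, expand_X]; exact B.mul_mem hp (hB i)

lemma exists_decomp (p : S) :
    ∃ a b c d : S, p = E a + E b * X 0 + E c * X 1 + E d * (X 0 * X 1) := by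
  induction p using MvPolynomial.induction_on with
  | C r => exact ⟨C r, 0, 0, 0, by simp⟩
  | add p q hp hq =>
    obtain ⟨a, b, c, d, rfl⟩ := hp
    obtain ⟨a', b', c', d', rfl⟩ := hq
    exact ⟨a + a', b + b', c + c', d + d', by simp only [map_add]; ring⟩
  | mul_X p i hp =>
    obtain ⟨a, b, c, d, rfl⟩ := hp
    fin_cases i
    · exact ⟨b * X 0, a, d * X 0, c, by simp only [map_mul, expand_X, Fin.isValue, Fin.zero_eta]; ring⟩
    · exact ⟨c * X 1, d * X 1, a, b, by simp only [map_mul, expand_X, Fin.isValue, Fin.mk_one]; ring⟩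

variable [CharP R 2]

lemma derivation_expand (D : Derivation R S S) (a : S) : D (E a) = 0 := by
  induction a using MvPolynomial.induction_on with
  | C r => rw [expand_C, derivation_C]
  | add p q hp hq => rw [map_add, map_add, hp, hq, add_zero]
  | mul_X p i hp =>
    rw [map_mul, expand_X, Derivation.leibniz, hp, Derivation.leibniz_pow]
    simp [← Nat.cast_smul_eq_nsmul R, CharTwo.two_eq_zero]

/-- The value of a derivation on a decomposed polynomial. -/
lemma derivation_decomp (D : Derivation R S S) (a b c d : S) :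
    D (E a + E b * X 0 + E c * X 1 + E d * (X 0 * X 1)) =
      E b * D (X 0) + E c * D (X 1) + E d * (D (X 0) * X 1 + X 0 * D (X 1)) := by
  simp only [map_add, Derivation.leibniz, derivation_expand, smul_eq_mul, mul_zero, add_zero,
    zero_add]
  ring

lemma two_eq_zero' : (2 : S) = 0 := by
  rw [show (2 : S) = C (2 : R) by rw [map_ofNat], (CharTwo.two_eq_zero : (2 : R) = 0), map_zero]

lemma decomp_eq_zero {a b c d : S}
    (h : E a + E b * X 0 + E c * X 1 + E d * (X 0 * X 1) = 0) :
    a = 0 ∧ b = 0 ∧ c = 0 ∧ d = 0 := by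
  have hx := congrArg (pderiv (0 : Fin 2)) h
  rw [derivation_decomp, map_zero] at hx
  simp only [pderiv_X_self, pderiv_X_of_ne (show (1 : Fin 2) ≠ 0 by decide), mul_one, mul_zero,
    add_zero, one_mul] at hx
  have hy := congrArg (pderiv (1 : Fin 2)) hx
  simp only [map_add, map_zero, Derivation.leibniz, derivation_expand, pderiv_X_self, smul_eq_mul,
    mul_one, mul_zero, add_zero, zero_add] at hy
  have hd := (expand_eq_zero (by norm_num)).1 hy
  subst hd
  simp only [map_zero, zero_mul, add_zero] at hx
  have hb := (expand_eq_zero (by norm_num)).1 hx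
  subst hb
  simp only [map_zero, zero_mul, add_zero] at h
  have hy := congrArg (pderiv (1 : Fin 2)) h
  simp only [map_add, map_zero, Derivation.leibniz, derivation_expand, pderiv_X_self, smul_eq_mul,
    mul_one, mul_zero, add_zero, zero_add] at hy
  have hc := (expand_eq_zero (by norm_num)).1 hy
  subst hc
  simp only [map_zero, zero_mul, add_zero] at h
  exact ⟨(expand_eq_zero (by norm_num)).1 h, rfl, rfl, rfl⟩


/-- The kernel criterion for the derivation `x ↦ p + t x`, `y ↦ q + t y` (coefficients squares). -/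
lemma derivation_decomp_eq_zero (p q t : S) (D : Derivation R S S) (h0 : D (X 0) = E p + E t * X 0)
    (h1 : D (X 1) = E q + E t * X 1) {a b c d : S}
    (h : D (E a + E b * X 0 + E c * X 1 + E d * (X 0 * X 1)) = 0) :
    b * t = d * q ∧ c * t = d * p := by
  have h' : E (b * p + c * q) + E (b * t + d * q) * X 0 + E (c * t + d * p) * X 1 +
      E 0 * (X 0 * X 1) = 0 := by
    rw [derivation_decomp, h0, h1] at h
    simp only [map_add, map_mul, map_zero]
    linear_combination h - (E d * E t * (X 0 * X 1)) * two_eq_zero' (R := R)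
  obtain ⟨-, hb, hc, -⟩ := decomp_eq_zero h'
  exact ⟨CharTwo.add_eq_zero.1 hb, CharTwo.add_eq_zero.1 hc⟩

/-- The invariant `q(x²,y²) x + p(x²,y²) y + t(x²,y²) x y`. -/
noncomputable def invariant (p q t : S) : S := E q * X 0 + E p * X 1 + E t * (X 0 * X 1)

lemma derivation_invariant (p q t : S) (D : Derivation R S S) (h0 : D (X 0) = E p + E t * X 0)
    (h1 : D (X 1) = E q + E t * X 1) : D (invariant p q t) = 0 := by
  have e : invariant p q t = E 0 + E q * X 0 + E p * X 1 + E t * (X 0 * X 1) := by
    simp [invariant]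
  rw [e, derivation_decomp, h0, h1]
  linear_combination (E p * E q + E q * E t * X 0 + E p * E t * X 1 + E t * E t * (X 0 * X 1)) *
    two_eq_zero' (R := R)

omit [CharP R 2] in
lemma derivation_eq_zero_of_mem_adjoin (D : Derivation R S S) {s : Set S}
    (hs : ∀ x ∈ s, D x = 0) {a : S} (ha : a ∈ Algebra.adjoin R s) : D a = 0 := by
  induction ha using Algebra.adjoin_induction with
  | mem x hx => exact hs x hx
  | algebraMap r => exact D.map_algebraMap r
  | add x y _ _ hx hy => rw [map_add, hx, hy, add_zero]
  | mul x y _ _ hx hy => rw [Derivation.leibniz, hx, hy, smul_zero, smul_zero, add_zero]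

lemma derivation_X_sq (D : Derivation R S S) (i : Fin 2) : D ((X i : S) ^ 2) = 0 := by
  rw [← expand_X 2 i, derivation_expand]

/-- The kernel of `R[a,b,c] → R[x,y]`, `a ↦ x²`, `b ↦ y²`, `c ↦` the invariant. -/
lemma ker_aeval_eq_span (p q t : S) (ht : ∀ v : S, v * t = 0 → v = 0) (h : S) (hh : h = invariant p q t)
    (G : S) (hG : h ^ 2 = E G) (F : MvPolynomial (Fin 3) R)
    (hF : F = X 2 ^ 2 + rename Fin.castSucc G) :
    RingHom.ker (aeval (R := R) (S₁ := S) ![X 0 ^ 2, X 1 ^ 2, h]) = Ideal.span {F} := by
  set φ := aeval (R := R) (S₁ := S) ![X 0 ^ 2, X 1 ^ 2, h] with hφ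
  have hφι : ∀ u : S, φ (rename Fin.castSucc u) = E u := fun u => by
    rw [hφ, aeval_rename]
    refine DFunLike.congr_fun (?_ : aeval _ = E) u
    refine MvPolynomial.algHom_ext fun i => ?_
    rw [aeval_X, expand_X]
    fin_cases i <;> rfl
  have hφ2 : φ (X 2) = h := by simp [hφ]
  refine le_antisymm (fun x hx => ?_) ?_
  · have hred : ∀ x : MvPolynomial (Fin 3) R, ∃ u v w,
        x = rename Fin.castSucc u + rename Fin.castSucc v * X 2 + w * F := fun x => by
      induction x using MvPolynomial.induction_on with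
      | C r => exact ⟨C r, 0, 0, by simp⟩
      | add x y hx hy =>
        obtain ⟨u, v, w, rfl⟩ := hx
        obtain ⟨u', v', w', rfl⟩ := hy
        exact ⟨u + u', v + v', w + w', by simp only [map_add]; ring⟩
      | mul_X x i hx =>
        obtain ⟨u, v, w, rfl⟩ := hx
        fin_cases i
        · exact ⟨u * X 0, v * X 0, w * X 0, by simp only [map_mul, rename_X]; simp; ring⟩
        · exact ⟨u * X 1, v * X 1, w * X 1, by simp only [map_mul, rename_X]; simp; ring⟩
        · refine ⟨-(v * G), u, w * X 2 + rename Fin.castSucc v, ?_⟩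
          simp only [hF, map_mul, map_neg]
          simp
          ring
    obtain ⟨u, v, w, rfl⟩ := hred x
    have hF0 : φ F = 0 := by
      rw [hF, map_add, map_pow, hφι, hφ2, hG, ← two_mul, two_eq_zero', zero_mul]
    rw [RingHom.mem_ker, map_add, map_add, map_mul, map_mul, hF0, hφι, hφι, hφ2, hh] at hx
    have h' : E u + E (v * q) * X 0 + E (v * p) * X 1 + E (v * t) * (X 0 * X 1) = 0 := by
      rw [← hx, invariant]; simp only [map_mul]; ring
    obtain ⟨hu, -, -, hv⟩ := decomp_eq_zero h'
    rw [hu, ht v hv, map_zero, zero_mul, zero_add, zero_add]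
    exact Ideal.mem_span_singleton'.2 ⟨w, rfl⟩
  · rw [Ideal.span_le, Set.singleton_subset_iff, SetLike.mem_coe, RingHom.mem_ker, hF, map_add,
      map_pow, hφι, hφ2, hG, ← two_mul, two_eq_zero', zero_mul]

end Groth.EtaleDeep.Char2
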