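import Groth.Agent.EtaleDeep.IndEt.PiZero

/-!
# Covers of spectral spaces refined by clopen decompositions
-/

set_option autoImplicit false

universe u

open Topology TopologicalSpace Set

namespace Groth.EtaleDeep.ClopenRefinement

variable {X : Type u} [TopologicalSpace X] [SpectralSpace X]

local notation "π₀" => _root_.ConnectedComponents.mk

/-- Covers are refined by finite clopen decompositions. -/
def Refines (X : Type u) [TopologicalSpace X] : Prop :=
  ∀ (ι : Type u) (U : ι → Set X), (∀ i, IsOpen (U i)) → (⋃ i, U i) = Set.univ →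
    ∃ (n : ℕ) (V : Fin n → Set X), (∀ k, IsClopen (V k)) ∧
      Pairwise (fun k l => Disjoint (V k) (V l)) ∧ (⋃ k, V k) = Set.univ ∧ ∀ k, ∃ i, V k ⊆ U i

theorem exists_closed_point_mem {C : Set X} (hC : IsClosed C) (hne : C.Nonempty) :
    ∃ z ∈ C, IsClosed ({z} : Set X) := hC.exists_closed_singleton hne

theorem bijective_of_refines (h : Refines X) :
    Function.Bijective (fun x : {x : X // IsClosed ({x} : Set X)} => π₀ x.1) := by
  constructor
  · rintro ⟨x, hx⟩ ⟨y, hy⟩ hxy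
    by_contra hne
    have hne' : x ≠ y := fun e => hne (Subtype.ext e)
    obtain ⟨n, V, hV, -, hcov, hsub⟩ :=
      h (ULift.{u} Bool) (fun b => if b.down then {x}ᶜ else {y}ᶜ)
        (fun b => by rcases b with ⟨_ | _⟩ <;> simp [hx.isOpen_compl, hy.isOpen_compl])
        (Set.eq_univ_of_forall fun z => by
          by_cases hz : z = x
          · exact mem_iUnion.2 ⟨⟨false⟩, by simp [hz, hne']⟩
          · exact mem_iUnion.2 ⟨⟨true⟩, by simp [hz]⟩)
    obtain ⟨k, hk⟩ := mem_iUnion.1 (hcov ▸ mem_univ x : x ∈ ⋃ k, V k)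
    obtain ⟨⟨_ | _⟩, hi⟩ := hsub k
    · have := PiZero.mk_eq_iff.1 (Eq.symm hxy) (V k) (hV k) hk
      exact (by simpa using hi this : ¬ y = y) rfl
    · exact (by simpa using hi hk : ¬ x = x) rfl
  · intro c
    obtain ⟨x, rfl⟩ := ConnectedComponents.surjective_coe c
    obtain ⟨z, hz, hz'⟩ := exists_closed_point_mem isClosed_connectedComponent
      ⟨x, mem_connectedComponent⟩
    exact ⟨⟨z, hz'⟩, ConnectedComponents.coe_eq_coe'.2 hz⟩

theorem refines_of_bijective
    (h : Function.Bijective (fun x : {x : X // IsClosed ({x} : Set X)} => π₀ x.1)) :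
    Refines X := by
  intro ι U hU hcov
  have hloc : ∀ x : X, ∃ Z : Set X, IsClopen Z ∧ x ∈ Z ∧ ∃ i, Z ⊆ U i := by
    intro x
    obtain ⟨⟨z, hz⟩, hzx⟩ := h.2 (π₀ x)
    obtain ⟨i, hi⟩ := mem_iUnion.1 (hcov ▸ mem_univ z : z ∈ ⋃ i, U i)
    have hsub : connectedComponent x ⊆ U i := fun w hw => by
      by_contra hwU
      obtain ⟨z', ⟨hz1, hz2⟩, hz'⟩ := exists_closed_point_mem
        (isClosed_connectedComponent.inter (hU i).isClosed_compl) ⟨w, hw, hwU⟩
      have : (⟨z', hz'⟩ : {x : X // IsClosed ({x} : Set X)}) = ⟨z, hz⟩ :=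
        h.1 ((ConnectedComponents.coe_eq_coe'.2 hz1).trans hzx.symm)
      exact hz2 (by rw [show z' = z from congrArg Subtype.val this]; exact hi)
    rw [Groth.SitesTopoi.connectedComponent_eq_sInter] at hsub
    let α := {Z : Set X // IsClopen Z ∧ x ∈ Z}
    have : Nonempty α := ⟨⟨univ, isClopen_univ, trivial⟩⟩
    obtain ⟨⟨Z, hZ, hxZ⟩, hZU⟩ := exists_subset_nhds_of_compactSpace
      (V := fun Z : α => Z.1)
      (fun Z₁ Z₂ => ⟨⟨Z₁.1 ∩ Z₂.1, Z₁.2.1.inter Z₂.2.1, Z₁.2.2, Z₂.2.2⟩,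
        inter_subset_left, inter_subset_right⟩)
      (fun Z => Z.2.1.1) (U := U i) (fun w hw => (hU i).mem_nhds (hsub fun Z hZ =>
        mem_iInter.1 hw ⟨Z, hZ.1, hZ.2⟩))
    exact ⟨Z, hZ, hxZ, i, hZU⟩
  choose Z hZ hxZ i hi using hloc
  obtain ⟨t, ht⟩ := isCompact_univ.elim_finite_subcover Z (fun x => (hZ x).isOpen)
    (fun x _ => mem_iUnion.2 ⟨x, hxZ x⟩)
  let e : Fin t.card ≃ t := t.equivFin.symm
  refine ⟨t.card, fun k => Z (e k) ∩ ⋂ l ∈ Finset.univ.filter (· < k), (Z (e l))ᶜ,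
    fun k => (hZ _).inter (isClopen_biInter_finset fun l _ => (hZ _).compl), ?_, ?_,
    fun k => ⟨i (e k), inter_subset_left.trans (hi _)⟩⟩
  · intro k l hkl
    refine Set.disjoint_left.2 fun w hk hl => ?_
    rcases lt_or_gt_of_ne hkl with h' | h'
    · exact (mem_iInter₂.1 hl.2 k (by simp [h'])) hk.1
    · exact (mem_iInter₂.1 hk.2 l (by simp [h'])) hl.1
  · refine Set.eq_univ_of_forall fun w => ?_
    obtain ⟨x, hx, hwx⟩ := mem_iUnion₂.1 (ht (mem_univ w))
    classical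
    have hne : (Finset.univ.filter fun k => w ∈ Z (e k)).Nonempty :=
      ⟨e.symm ⟨x, hx⟩, by simpa using hwx⟩
    refine mem_iUnion.2 ⟨(Finset.univ.filter fun k => w ∈ Z (e k)).min' hne, ?_, ?_⟩
    · exact (Finset.mem_filter.1 (Finset.min'_mem _ hne)).2
    · refine mem_iInter₂.2 fun l hl hlw => ?_
      exact (Finset.mem_filter.1 hl).2.not_ge (Finset.min'_le _ l (by simpa using hlw))

theorem bijective_of_unique_specialization (h0 : IsClosed {x : X | IsClosed ({x} : Set X)})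
    (huniq : ∀ x : X, ∃! z : X, IsClosed ({z} : Set X) ∧ x ⤳ z) :
    Function.Bijective (fun x : {x : X // IsClosed ({x} : Set X)} => π₀ x.1) := by
  have h : ProEtW.IsWLocal X := ⟨inferInstance, h0, huniq⟩
  refine ⟨fun x y hxy => Subtype.ext (PiZero.eq_of_mk_eq h x.2 y.2 hxy), fun c => ?_⟩
  obtain ⟨z, hz, hzc⟩ := PiZero.exists_closed_mk_eq h c
  exact ⟨⟨z, hz⟩, hzc⟩

end Groth.EtaleDeep.ClopenRefinement
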