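import Groth.Prelude.Def_ProEtS
import Mathlib.CategoryTheory.Sites.InducedTopology
import Mathlib.CategoryTheory.MorphismProperty.OverAdjunction
import Mathlib.CategoryTheory.Sites.CoverPreserving

/-! Continuity of the functors between small étale and pro-étale sites. -/

universe u v w

open CategoryTheory CategoryTheory.Limits AlgebraicGeometry Opposite

namespace Groth.EtaleDeep.ProEtSite

set_option backward.isDefEq.respectTransparency.types false in
/-- A sieve covers in the small pro-étale site iff its image in `Over X` covers. -/
lemma mem_topology_iff (X : Scheme.{u}) (U : X.ProEt) (S : Sieve U) :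
    S ∈ Scheme.ProEt.topology X U ↔
      S.functorPushforward (Scheme.ProEt.forget X) ∈ Scheme.proetaleTopology.over X _ := by
  have h : Scheme.ProEt.topology X =
      (Scheme.ProEt.forget X).restrictedTopology (Scheme.proetaleTopology.over X) :=
    MorphismProperty.toGrothendieck_comap_forget_eq_restrictedTopology _
      Scheme.proetalePrecoverage_le_precoverage_weaklyEtale
  rw [h]
  exact Functor.mem_restrictedTopology_iff

variable {C : Type w} [Category.{v} C] {X : Scheme.{u}} (F : C ⥤ X.ProEt)
  (J : GrothendieckTopology C)

lemma coverPreserving_of_comp_forget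
    (h : CoverPreserving J (Scheme.proetaleTopology.over X) (F ⋙ Scheme.ProEt.forget X)) :
    CoverPreserving J (Scheme.ProEt.topology X) F where
  cover_preserve {U S} hS := by
    rw [mem_topology_iff, ← Sieve.functorPushforward_comp]
    exact h.cover_preserve hS

lemma isContinuous_of_comp_forget [HasFiniteLimits C]
    [PreservesFiniteLimits (F ⋙ Scheme.ProEt.forget X)]
    (h : CoverPreserving J (Scheme.proetaleTopology.over X) (F ⋙ Scheme.ProEt.forget X)) :
    F.IsContinuous J (Scheme.ProEt.topology X) := by
  have : PreservesFiniteLimits F :=
    preservesFiniteLimits_of_reflects_of_preserves F (Scheme.ProEt.forget X)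
  have : RepresentablyFlat F := flat_of_preservesFiniteLimits F
  exact Functor.isContinuous_of_coverPreserving (compatiblePreservingOfFlat _ _)
    (coverPreserving_of_comp_forget F J h)

set_option backward.isDefEq.respectTransparency.types false in
/-- `ε` is continuous. -/
theorem epsCont (X : Scheme.{u}) : ProEtS.EpsCont X := by
  have : PreservesFiniteLimits (ProEtS.eps X ⋙ Scheme.ProEt.forget X) :=
    inferInstanceAs (PreservesFiniteLimits (Scheme.Etale.forget X))
  refine isContinuous_of_comp_forget (ProEtS.eps X) _ ⟨fun {U S} hS => ?_⟩
  have h := (Functor.mem_restrictedTopology_iff (G := MorphismProperty.Over.forget @Etale ⊤ X)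
    (K := X.overGrothendieckTopology @Etale) (S := S)).1 hS
  rw [GrothendieckTopology.mem_over_iff] at h ⊢
  exact Scheme.etaleTopology_le_proetaleTopology _ h

set_option backward.isDefEq.respectTransparency.types false in
/-- Base change between small pro-étale sites is continuous. -/
theorem pCont {X Y : Scheme.{u}} (f : X ⟶ Y) : ProEtS.PCont f := by
  let e : ProEtS.bcP f ⋙ Scheme.ProEt.forget X ≅ Scheme.ProEt.forget Y ⋙ Over.pullback f :=
    MorphismProperty.Over.pullbackCompForgetIso (P := @WeaklyEtale) (Q := ⊤) f
  have : PreservesFiniteLimits (ProEtS.bcP f ⋙ Scheme.ProEt.forget X) :=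
    preservesFiniteLimits_of_natIso e.symm
  have : (Scheme.ProEt.forget Y ⋙ Over.pullback f).IsContinuous (Scheme.ProEt.topology Y)
      (Scheme.proetaleTopology.over X) :=
    Functor.isContinuous_comp _ _ _ (Scheme.proetaleTopology.over Y) _
  have : (ProEtS.bcP f ⋙ Scheme.ProEt.forget X).IsContinuous (Scheme.ProEt.topology Y)
      (Scheme.proetaleTopology.over X) := Functor.isContinuous_of_iso e.symm _ _
  exact isContinuous_of_comp_forget (ProEtS.bcP f) _ (CoverPreserving.of_isContinuous _ _ _)

end Groth.EtaleDeep.ProEtSite
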