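import Mathlib.Topology.Spectral.Basic

/-! Closed subspaces of spectral spaces are spectral. -/

universe u

open Topology TopologicalSpace

namespace Groth.EtaleDeep

variable {X Y : Type*} [TopologicalSpace X] [TopologicalSpace Y] {f : X → Y}

lemma spectralSpace_of_isClosedEmbedding [SpectralSpace Y] (hf : IsClosedEmbedding f) :
    SpectralSpace X := by
  have := hf.quasiSober
  have := PrespectralSpace.of_isClosedEmbedding f hf
  have := hf.isEmbedding.t0Space
  have := hf.compactSpace
  have : QuasiSeparatedSpace X := by
    refine QuasiSeparatedSpace.of_isTopologicalBasis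
      (b := fun U : {U : Set Y // IsOpen U ∧ IsCompact U} => f ⁻¹' U.1) ?_ ?_
    · have := (PrespectralSpace.isTopologicalBasis (X := Y)).isInducing hf.isInducing
      have e : Set.range (fun U : {U : Set Y // IsOpen U ∧ IsCompact U} => f ⁻¹' U.1) =
          Set.preimage f '' {U : Set Y | IsOpen U ∧ IsCompact U} := by
        rw [Set.image_eq_range]
        rfl
      rwa [e]
    · intro U V
      rw [← Set.preimage_inter]
      exact hf.isCompact_preimage (U.2.2.inter_of_isOpen V.2.2 U.2.1 V.2.1)
  exact { }

lemma spectralSpace_subtype [SpectralSpace Y] {s : Set Y} (hs : IsClosed s) : SpectralSpace ↥s :=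
  spectralSpace_of_isClosedEmbedding hs.isClosedEmbedding_subtypeVal

end Groth.EtaleDeep
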